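import Groth.Agent.MonoLocusLib.Global

/-!
Inclusion of subgroups over schemes over the base.
-/

set_option autoImplicit false

noncomputable section

universe u

open CategoryTheory CategoryTheory.Limits MonoidalCategory CartesianMonoidalCategory AlgebraicGeometry
open scoped MonObj

namespace Groth.Agent.MultEq

variable {S : Scheme.{u}} {G H H' : Over S}

/-- The first morphism factors through the second over `κ : T ⟶ S`. -/
def LE (i : H ⟶ G) (i' : H' ⟶ G) {T : Scheme.{u}} (κ : T ⟶ S) : Prop :=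
  ∀ (Y : Over S) (q : Y.left ⟶ T), q ≫ κ = Y.hom → ∀ h : Y ⟶ H, ∃ h' : Y ⟶ H', h' ≫ i' = h ≫ i

variable {i : H ⟶ G} {i' : H' ⟶ G}

theorem LE.comp {T T' : Scheme.{u}} {κ : T ⟶ S} (h : LE i i' κ) (g : T' ⟶ T) : LE i i' (g ≫ κ) :=
  fun Y q hq y => h Y (q ≫ g) (by rw [Category.assoc, hq]) y

/-- Inclusion descends along jointly surjective families of flat morphisms. -/
theorem le_of_family [IsImmersion i'.left] {T : Scheme.{u}} {κ : T ⟶ S} {I : Type u} {T' : I → Scheme.{u}}
    (g : ∀ j, T' j ⟶ T) (hflat : ∀ j, Flat (g j)) (hsurj : ∀ t : T, ∃ j, t ∈ Set.range (g j))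
    (h : ∀ j, LE i i' (g j ≫ κ)) : LE i i' κ := by
  intro Y q hq y
  let P : I → Scheme.{u} := fun j => pullback q (g j)
  let π : (∐ P) ⟶ Y.left := Sigma.desc fun j => pullback.fst q (g j)
  haveI : Flat π := IsZariskiLocalAtSource.sigmaDesc fun j => by
    haveI := hflat j
    infer_instance
  haveI : Surjective π := ⟨fun a => by
    obtain ⟨j, b, hb⟩ := hsurj (q a)
    obtain ⟨w, hw, -⟩ := Scheme.Pullback.exists_preimage_pullback (f := q) (g := g j) a b hb.symm
    refine ⟨Sigma.ι P j w, ?_⟩
    rw [← Scheme.Hom.comp_apply, Sigma.ι_desc]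
    exact hw⟩
  let Q := pullback i'.left (y ≫ i).left
  let z : Q ⟶ Y.left := pullback.snd _ _
  haveI : IsImmersion z := inferInstanceAs (IsImmersion (pullback.snd i'.left (y ≫ i).left))
  have hs : ∀ j, ∃ s : P j ⟶ Q, s ≫ z = pullback.fst q (g j) := by
    intro j
    let Y' : Over S := Over.mk (pullback.fst q (g j) ≫ Y.hom)
    let e : Y' ⟶ Y := Over.homMk (pullback.fst _ _)
    obtain ⟨h', hh'⟩ := h j Y' (pullback.snd _ _) (by
      show pullback.snd _ _ ≫ g j ≫ κ = pullback.fst _ _ ≫ Y.hom
      rw [← pullback.condition_assoc, hq]) (e ≫ y)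
    refine ⟨pullback.lift h'.left (pullback.fst q (g j)) ?_, pullback.lift_snd _ _ _⟩
    rw [Category.assoc] at hh'
    exact congrArg CommaMorphism.left hh'
  choose s hs using hs
  haveI : IsIso z := MultLift.isIso_of_factor z π (Sigma.desc s) (Sigma.hom_ext _ _ fun j => by
    rw [Sigma.ι_desc_assoc, hs, Sigma.ι_desc])
  have hc : (inv z ≫ pullback.fst i'.left (y ≫ i).left) ≫ i'.left = (y ≫ i).left := by
    rw [Category.assoc, pullback.condition, show pullback.snd i'.left (y ≫ i).left = z from rfl,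
      IsIso.inv_hom_id_assoc]
  refine ⟨Over.homMk (inv z ≫ pullback.fst _ _) ?_, Over.OverMorphism.ext hc⟩
  exact ((congrArg (_ ≫ ·) (Over.w i')).symm.trans (Category.assoc _ _ _).symm).trans
    ((congrArg (· ≫ G.hom) hc).trans (Over.w _))

theorem le_of_flat_surjective [IsImmersion i'.left] {T T' : Scheme.{u}} {κ : T ⟶ S} (g : T' ⟶ T) [Flat g]
    [Surjective g] (h : LE i i' (g ≫ κ)) : LE i i' κ :=
  le_of_family (fun _ : PUnit.{u + 1} => g) (fun _ => inferInstance)
    (fun t => ⟨PUnit.unit, g.surjective t⟩) (fun _ => h)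

/-- Inclusion at a point with values in a field only depends on the point. -/
theorem le_field_iff [IsImmersion i'.left] {F : Type u} [Field F] (κ : Spec (CommRingCat.of F) ⟶ S) :
    LE i i' κ ↔ LE i i' (S.fromSpecResidueField (κ (IsLocalRing.closedPoint F))) := by
  let d : Spec (CommRingCat.of F) ⟶ Spec (S.residueField (κ (IsLocalRing.closedPoint F))) :=
    Spec.map (S.descResidueField (Scheme.stalkClosedPointTo κ))
  have hd : d ≫ S.fromSpecResidueField _ = κ :=
    Scheme.descResidueField_stalkClosedPointTo_fromSpecResidueField F S κ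
  constructor
  · intro h
    haveI : Flat d := by
      rw [HasRingHomProperty.Spec_iff (P := @Flat)]
      let ψ := (S.descResidueField (Scheme.stalkClosedPointTo κ)).hom
      letI := ψ.toAlgebra
      exact RingHom.flat_algebraMap_iff.2 (inferInstance :
        Module.Flat (S.residueField (κ (IsLocalRing.closedPoint F))) F)
    haveI : Surjective d := ⟨fun t => ⟨IsLocalRing.closedPoint F,
      @Subsingleton.elim _ (inferInstanceAs (Subsingleton (PrimeSpectrum (S.residueField _)))) _ _⟩⟩
    exact le_of_flat_surjective d (hd.symm ▸ h)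
  · intro h
    exact hd ▸ h.comp d

section Pair

/-- The intersection of two subobjects. -/
def pob (i : H ⟶ G) (i' : H' ⟶ G) : Over S := Over.mk (pullback.fst i.left i'.left ≫ H.hom)

/-- The intersection, inside the first one. -/
def pr₁ (i : H ⟶ G) (i' : H' ⟶ G) : pob i i' ⟶ H := Over.homMk (pullback.fst i.left i'.left) rfl

/-- The intersection, inside the second one. -/
def pr₂ (i : H ⟶ G) (i' : H' ⟶ G) : pob i i' ⟶ H' := Over.homMk (pullback.snd i.left i'.left) (by
  show pullback.snd i.left i'.left ≫ H'.hom = pullback.fst i.left i'.left ≫ H.hom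
  rw [← Over.w i', ← Category.assoc, ← pullback.condition, Category.assoc, Over.w i])

theorem pr_condition : pr₁ i i' ≫ i = pr₂ i i' ≫ i' := Over.OverMorphism.ext pullback.condition

theorem exists_lift_pob {Y : Over S} (a : Y ⟶ H) (b : Y ⟶ H') (h : a ≫ i = b ≫ i') :
    ∃ z : Y ⟶ pob i i', z ≫ pr₁ i i' = a ∧ z ≫ pr₂ i i' = b := by
  refine ⟨Over.homMk (pullback.lift a.left b.left (congrArg CommaMorphism.left h)) ?_,
    Over.OverMorphism.ext (pullback.lift_fst _ _ _), Over.OverMorphism.ext (pullback.lift_snd _ _ _)⟩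
  show pullback.lift a.left b.left _ ≫ pullback.fst _ _ ≫ H.hom = Y.hom
  rw [pullback.lift_fst_assoc, Over.w]

theorem mono_pr₁ [Mono i'] : Mono (pr₁ i i') := ⟨fun {Y} a b hab => by
  refine Over.OverMorphism.ext (pullback.hom_ext (congrArg CommaMorphism.left hab) ?_)
  have h2 : (a ≫ pr₂ i i') ≫ i' = (b ≫ pr₂ i i') ≫ i' := by
    rw [Category.assoc, Category.assoc, ← pr_condition, ← Category.assoc, hab, Category.assoc]
  exact congrArg CommaMorphism.left ((cancel_mono i').1 h2)⟩

/-- Inclusion over `κ` means that the intersection fills the first subobject over `κ`. -/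
theorem le_iff_isIso [Mono i'] {T : Scheme.{u}} (κ : T ⟶ S) :
    LE i i' κ ↔ IsIso ((Over.pullback κ).map (pr₁ i i')).left := by
  let adj := Over.mapPullbackAdj κ
  haveI : PreservesLimitsOfSize.{0, 0} (Over.pullback κ) := adj.rightAdjoint_preservesLimits
  haveI := mono_pr₁ (i := i) (i' := i')
  constructor
  · intro h
    obtain ⟨h', hh'⟩ := h ((Over.map κ).obj ((Over.pullback κ).obj H)) ((Over.pullback κ).obj H).hom rfl
      ((adj.homEquiv _ _).symm (𝟙 _))
    obtain ⟨z, hz, -⟩ := exists_lift_pob _ _ hh'.symm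
    have hsec : adj.homEquiv _ _ z ≫ (Over.pullback κ).map (pr₁ i i') = 𝟙 _ := by
      rw [← adj.homEquiv_naturality_right, hz, Equiv.apply_symm_apply]
    haveI : IsSplitEpi ((Over.pullback κ).map (pr₁ i i')) := IsSplitEpi.mk' ⟨_, hsec⟩
    haveI : IsIso ((Over.pullback κ).map (pr₁ i i')) := isIso_of_mono_of_isSplitEpi _
    exact inferInstanceAs (IsIso ((Over.forget _).map ((Over.pullback κ).map (pr₁ i i'))))
  · intro hiso Y q hq h
    haveI : IsIso ((Over.forget T).map ((Over.pullback κ).map (pr₁ i i'))) := hiso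
    haveI : IsIso ((Over.pullback κ).map (pr₁ i i')) := isIso_of_reflects_iso _ (Over.forget T)
    let Y' : Over T := Over.mk q
    let ε : (Over.map κ).obj Y' ⟶ Y := Over.homMk (𝟙 Y.left) (by
      show 𝟙 Y.left ≫ Y.hom = q ≫ κ
      rw [Category.id_comp, hq])
    haveI : IsIso ((Over.forget S).map ε) := inferInstanceAs (IsIso (𝟙 Y.left))
    haveI : IsIso ε := isIso_of_reflects_iso ε (Over.forget S)
    let z := (adj.homEquiv Y' (pob i i')).symm (adj.homEquiv Y' H (ε ≫ h) ≫ inv ((Over.pullback κ).map (pr₁ i i')))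
    have hz : z ≫ pr₁ i i' = ε ≫ h := by
      apply (adj.homEquiv Y' H).injective
      rw [adj.homEquiv_naturality_right]
      simp [z]
    refine ⟨inv ε ≫ z ≫ pr₂ i i', ?_⟩
    rw [Category.assoc, Category.assoc, ← pr_condition, ← Category.assoc z, hz, Category.assoc, IsIso.inv_hom_id_assoc]

/-- An isomorphism over `κ` compatible with the inclusions is inclusion in both directions. -/
theorem iso_iff [Mono i] [Mono i'] {T : Scheme.{u}} (κ : T ⟶ S) :
    (∃ ψ : Red.bc κ H ≅ Red.bc κ H', ψ.hom ≫ (Over.pullback κ).map i' = (Over.pullback κ).map i) ↔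
      LE i i' κ ∧ LE i' i κ := by
  let adj := Over.mapPullbackAdj κ
  haveI : PreservesLimitsOfSize.{0, 0} (Over.pullback κ) := adj.rightAdjoint_preservesLimits
  constructor
  · rintro ⟨ψ, hψ⟩
    have key : ∀ {A B : Over S} (a : A ⟶ G) (b : B ⟶ G) (v : Red.bc κ A ⟶ Red.bc κ B),
        v ≫ (Over.pullback κ).map b = (Over.pullback κ).map a → LE a b κ := by
      intro A B a b v hv Y q hq h
      let Y' : Over T := Over.mk q
      let ε : (Over.map κ).obj Y' ⟶ Y := Over.homMk (𝟙 Y.left) (by
        show 𝟙 Y.left ≫ Y.hom = q ≫ κ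
        rw [Category.id_comp, hq])
      haveI : IsIso ((Over.forget S).map ε) := inferInstanceAs (IsIso (𝟙 Y.left))
      haveI : IsIso ε := isIso_of_reflects_iso ε (Over.forget S)
      let h' := (adj.homEquiv Y' B).symm (adj.homEquiv Y' A (ε ≫ h) ≫ v)
      refine ⟨inv ε ≫ h', ?_⟩
      rw [Category.assoc, IsIso.inv_comp_eq]
      refine (adj.homEquiv Y' G).injective ?_
      rw [← Category.assoc, adj.homEquiv_naturality_right, adj.homEquiv_naturality_right, Equiv.apply_symm_apply,
        Category.assoc]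
      exact congrArg (_ ≫ ·) hv
    exact ⟨key i i' ψ.hom hψ, key i' i ψ.inv (by rw [← hψ, Iso.inv_hom_id_assoc])⟩
  · rintro ⟨h1, h2⟩
    have key : ∀ {A B : Over S} (a : A ⟶ G) (b : B ⟶ G), LE a b κ →
        ∃ v : Red.bc κ A ⟶ Red.bc κ B, v ≫ (Over.pullback κ).map b = (Over.pullback κ).map a := by
      intro A B a b h
      obtain ⟨h', hh'⟩ := h ((Over.map κ).obj (Red.bc κ A)) (Red.bc κ A).hom rfl ((adj.homEquiv _ A).symm (𝟙 _))
      refine ⟨adj.homEquiv _ B h', ?_⟩
      rw [← adj.homEquiv_naturality_right, hh', adj.homEquiv_naturality_right, Equiv.apply_symm_apply]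
      exact Category.id_comp _
    obtain ⟨v, hv⟩ := key i i' h1
    obtain ⟨v', hv'⟩ := key i' i h2
    refine ⟨⟨v, v', ?_, ?_⟩, hv⟩
    · rw [← cancel_mono ((Over.pullback κ).map i), Category.assoc, hv', hv]
      exact (Category.id_comp _).symm
    · rw [← cancel_mono ((Over.pullback κ).map i'), Category.assoc, hv, hv']
      exact (Category.id_comp _).symm

end Pair

end Groth.Agent.MultEq
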