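import Groth.Agent.MultEqLib.Piece
import Groth.Agent.MultEqLib.Props
import Groth.Agent.S2575

/-!
The locus of equality of two subgroups of multiplicative type is clopen.
-/

set_option autoImplicit false

noncomputable section

universe u

open CategoryTheory CategoryTheory.Limits MonoidalCategory CartesianMonoidalCategory AlgebraicGeometry CoactBr
open scoped MonObj TensorProduct

namespace Groth.Agent.MultEq

open Groth.Agent.FreeAct (DA)
open Groth.Agent.MonoLocus (kob kin)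

attribute [local instance] CoactBr.braidedAlgSpecOf

variable {S : Scheme.{u}} {G H H' : Over S} [GrpObj G] [GrpObj H] [GrpObj H'] {i : H ⟶ G} {i' : H' ⟶ G}

/-- The difference, the second inclusion first. -/
def diffR (i : H ⟶ G) (i' : H' ⟶ G) : Diff i i' where
  hom := (snd H H' ≫ i') * (fst H H' ≫ i)⁻¹
  eq_one_iff a b := by
    rw [MonObj.comp_mul, GrpObj.comp_inv, lift_snd_assoc, lift_fst_assoc, mul_inv_eq_one, eq_comm]

/-- The difference, the first inclusion first. -/
def diffL (i : H ⟶ G) (i' : H' ⟶ G) : Diff i i' where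
  hom := (fst H H' ≫ i) * (snd H H' ≫ i')⁻¹
  eq_one_iff a b := by
    rw [MonObj.comp_mul, GrpObj.comp_inv, lift_snd_assoc, lift_fst_assoc, mul_inv_eq_one]

theorem lfp_kin [IsSeparated G.hom] (hG : IsLocallyNoetherian S ∨ LocallyOfFinitePresentation G.hom)
    {X : Over S} [GrpObj X] [LocallyOfFiniteType X.hom] (v : X ⟶ G) : LocallyOfFinitePresentation (kin v).left := by
  show LocallyOfFinitePresentation (pullback.fst v.left (η[G] : 𝟙_ (Over S) ⟶ G).left)
  rcases hG with h | h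
  · haveI := h
    haveI : IsLocallyNoetherian X.left := LocallyOfFiniteType.isLocallyNoetherian X.hom
    haveI : IsClosedImmersion (η[G] : 𝟙_ (Over S) ⟶ G).left := by
      haveI : IsClosedImmersion ((η[G] : 𝟙_ (Over S) ⟶ G).left ≫ G.hom) := by
        rw [Over.w]
        exact inferInstanceAs (IsClosedImmersion (𝟙 S))
      exact IsClosedImmersion.of_comp _ G.hom
    haveI : LocallyOfFiniteType (pullback.fst v.left (η[G] : 𝟙_ (Over S) ⟶ G).left) := inferInstance
    exact LocallyOfFinitePresentation.iff_locallyOfFiniteType.2 inferInstance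
  · haveI := h
    haveI : LocallyOfFinitePresentation (η[G] : 𝟙_ (Over S) ⟶ G).left := by
      haveI : LocallyOfFinitePresentation ((η[G] : 𝟙_ (Over S) ⟶ G).left ≫ G.hom) := by
        rw [Over.w]
        exact inferInstanceAs (LocallyOfFinitePresentation (𝟙 S))
      exact AlgSpLib.lfp_of_comp_lft _ G.hom
    infer_instance

theorem lft_tensor [LocallyOfFiniteType H.hom] [LocallyOfFiniteType H'.hom] : LocallyOfFiniteType (H ⊗ H').hom :=
  inferInstanceAs (LocallyOfFiniteType (pullback.fst H.hom H'.hom ≫ H.hom))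

theorem isLocallyConstructible_le [IsSeparated G.hom] (hG : IsLocallyNoetherian S ∨ LocallyOfFinitePresentation G.hom)
    (hH : SGA3x.IsMultTypeFT H) (hH' : SGA3x.IsMultTypeFT H') [IsImmersion i'.left] [Mono i'] :
    Topology.IsLocallyConstructible {s : S | LE i i' (S.fromSpecResidueField s)} := by
  haveI := lfp_of_isMultTypeFT hH
  haveI := lfp_of_isMultTypeFT hH'
  haveI := isAffineHom_of_isMultTypeFT hH
  haveI := isAffineHom_of_isMultTypeFT hH'
  let f : (pob i i').left ⟶ H.left := (pr₁ i i').left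
  haveI : QuasiCompact i'.left := by
    haveI : QuasiCompact (i'.left ≫ G.hom) := by rw [Over.w]; infer_instance
    exact QuasiCompact.of_comp i'.left G.hom
  haveI : IsImmersion f := inferInstanceAs (IsImmersion (pullback.fst i.left i'.left))
  haveI : QuasiCompact f := inferInstanceAs (QuasiCompact (pullback.fst i.left i'.left))
  haveI : LocallyOfFinitePresentation f := by
    rcases hG with h | h
    · haveI := h
      haveI : IsLocallyNoetherian H.left := LocallyOfFiniteType.isLocallyNoetherian H.hom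
      exact LocallyOfFinitePresentation.iff_locallyOfFiniteType.2 inferInstance
    · haveI := h
      haveI : LocallyOfFinitePresentation i'.left := by
        haveI : LocallyOfFinitePresentation (i'.left ≫ G.hom) := by rw [Over.w]; infer_instance
        exact AlgSpLib.lfp_of_comp_lft _ G.hom
      exact inferInstanceAs (LocallyOfFinitePresentation (pullback.fst i.left i'.left))
  convert S2575.result f H.hom using 1
  ext s
  exact le_iff_isIso _

/-- Constructible subsets of an affine scheme are compact. -/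
theorem isCompact_of_isConstructible {R : Type u} [CommRing R] {K : Set (PrimeSpectrum R)}
    (hK : Topology.IsConstructible K) : IsCompact K := by
  induction K, hK using Topology.IsConstructible.induction_of_isTopologicalBasis
    (fun r : R => (PrimeSpectrum.basicOpen r : Set (PrimeSpectrum R))) with
  | basis => exact PrimeSpectrum.isTopologicalBasis_basic_opens
  | isCompact_basis i => exact PrimeSpectrum.isCompact_basicOpen i
  | sdiff i s hs => exact (PrimeSpectrum.isCompact_basicOpen i).diff (isOpen_biUnion fun j _ => (PrimeSpectrum.basicOpen j).isOpen)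
  | union s hs t ht hs' ht' => exact hs'.union ht'

/-- Locally constructible sets pull back along morphisms of schemes. -/
theorem isLocallyConstructible_preimage {X : Scheme.{u}} (p : X ⟶ S) {W : Set S}
    (hW : Topology.IsLocallyConstructible W) : Topology.IsLocallyConstructible (p ⁻¹' W) := by
  intro x
  obtain ⟨V, hV, hxV, -⟩ := exists_isAffineOpen_mem_and_subset (X := S) (x := p x) (U := ⊤) trivial
  haveI : IsAffine (V : Scheme.{u}) := hV
  have h1 : Topology.IsConstructible (V.ι ⁻¹' W) :=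
    (hW.preimage_of_isOpenEmbedding V.ι.isOpenEmbedding).isConstructible
  refine ⟨p ⁻¹ᵁ V, (p ⁻¹ᵁ V).isOpen.mem_nhds hxV, (p ⁻¹ᵁ V).isOpen, ?_⟩
  have h2 := (p ∣_ V).isConstructible_preimage h1
  have e : (p ∣_ V) ⁻¹' (V.ι ⁻¹' W) = (p ⁻¹ᵁ V).ι ⁻¹' (p ⁻¹' W) := Set.ext fun z => by
    simp only [Set.mem_preimage, ← Scheme.Hom.comp_apply, morphismRestrict_ι]
  rw [e] at h2
  exact h2

theorem le_residue_of_le [IsImmersion i'.left] {T : Scheme.{u}} {κ : T ⟶ S} (h : LE i i' κ) (t : T) :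
    LE i i' (S.fromSpecResidueField (κ t)) := by
  have h1 := (le_field_iff (T.fromSpecResidueField t ≫ κ)).1 (h.comp _)
  have hpt : (T.fromSpecResidueField t ≫ κ) (IsLocalRing.closedPoint (T.residueField t)) = κ t := by
    rw [Scheme.Hom.comp_apply, Scheme.fromSpecResidueField_apply]
  exact hpt ▸ h1

/-- On a split piece: the locus of equality is a union of clopens over which the subgroups are equal, and it is
clopen. -/
theorem exists_piece_clopen [IsSeparated G.hom] (hG : IsLocallyNoetherian S ∨ LocallyOfFinitePresentation G.hom)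
    (hH : SGA3x.IsMultTypeFT H) (hH' : SGA3x.IsMultTypeFT H') [IsMonHom i] [IsMonHom i'] [IsImmersion i.left]
    [IsImmersion i'.left] [Mono i] [Mono i'] (hc : MultLift.Central i)
    {R : Type u} [CommRing R] {M M' : Type} [AddCommGroup M] [AddCommGroup M'] (p : Spec (CommRingCat.of R) ⟶ S)
    (w : sp R (DA R M) ≅ Red.bc p H) (w' : sp R (DA R M') ≅ Red.bc p H') [IsMonHom w.hom] [IsMonHom w'.hom] :
    ∃ O : (Spec (CommRingCat.of R)).Opens, IsClosed (O : Set (Spec (CommRingCat.of R))) ∧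
      (∀ t, t ∈ O ↔ LE i i' (S.fromSpecResidueField (p t)) ∧ LE i' i (S.fromSpecResidueField (p t))) ∧
      LE i i' (O.ι ≫ p) ∧ LE i' i (O.ι ≫ p) := by
  haveI := lfp_of_isMultTypeFT hH
  haveI := lfp_of_isMultTypeFT hH'
  haveI : LocallyOfFiniteType (H ⊗ H').hom := lft_tensor
  haveI : LocallyOfFiniteType (H' ⊗ H).hom := lft_tensor
  haveI := lfp_kin hG (diffR i i').hom
  haveI := lfp_kin hG (diffL i' i).hom
  let K : Set (Spec (CommRingCat.of R)) :=
    {t | LE i i' (S.fromSpecResidueField (p t)) ∧ LE i' i (S.fromSpecResidueField (p t))}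
  have hex : ∀ t : K, ∃ O : (Spec (CommRingCat.of R)).Opens, IsClosed (O : Set (Spec (CommRingCat.of R))) ∧
      t.1 ∈ O ∧ LE i i' (O.ι ≫ p) ∧ LE i' i (O.ι ≫ p) := by
    rintro ⟨t, ht, ht'⟩
    obtain ⟨O, hO, htO, hle⟩ := exists_clopen p w w' hH (diffR i i') (Or.inl ⟨rfl, hc⟩) t ht
    obtain ⟨O', hO', htO', hle'⟩ := exists_clopen p w' w hH' (diffL i' i) (Or.inr ⟨rfl, hc⟩) t ht'
    refine ⟨O ⊓ O', hO.inter hO', ⟨htO, htO'⟩, ?_, ?_⟩
    · rw [← (Spec (CommRingCat.of R)).homOfLE_ι (inf_le_left : O ⊓ O' ≤ O), Category.assoc]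
      exact hle.comp _
    · rw [← (Spec (CommRingCat.of R)).homOfLE_ι (inf_le_right : O ⊓ O' ≤ O'), Category.assoc]
      exact hle'.comp _
  choose O hO htO hle hle' using hex
  have hsub : ∀ (j : K) t, t ∈ O j → t ∈ K := fun j t ht => by
    have h1 := le_residue_of_le (hle j) (⟨t, ht⟩ : (O j : Scheme.{u}))
    have h2 := le_residue_of_le (hle' j) (⟨t, ht⟩ : (O j : Scheme.{u}))
    have hpt : ((O j).ι ≫ p) (⟨t, ht⟩ : (O j : Scheme.{u})) = p t := rfl
    exact ⟨hpt ▸ h1, hpt ▸ h2⟩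
  have hK : K = ⋃ j, (O j : Set (Spec (CommRingCat.of R))) := by
    refine Set.ext fun t => ⟨fun ht => Set.mem_iUnion.2 ⟨⟨t, ht⟩, htO _⟩, fun ht => ?_⟩
    obtain ⟨j, hj⟩ := Set.mem_iUnion.1 ht
    exact hsub j t hj
  have hopen : IsOpen K := hK ▸ isOpen_iUnion fun j => (O j).isOpen
  have hcons : Topology.IsConstructible K := by
    haveI : CompactSpace (Spec (CommRingCat.of R)) := inferInstance
    have h1 := ((isLocallyConstructible_le (i := i) (i' := i') hG hH hH').inter
      (isLocallyConstructible_le (i := i') (i' := i) hG hH' hH))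
    exact (isLocallyConstructible_preimage p h1).isConstructible
  obtain ⟨F, hF⟩ := (isCompact_of_isConstructible hcons).elim_finite_subcover (fun j => (O j : Set (Spec (CommRingCat.of R))))
    (fun j => (O j).isOpen) hK.subset
  have hclosed : IsClosed K := by
    have : K = ⋃ j ∈ F, (O j : Set (Spec (CommRingCat.of R))) :=
      hF.antisymm (Set.iUnion₂_subset fun j _ => hK ▸ Set.subset_iUnion (fun j => (O j : Set (Spec (CommRingCat.of R)))) j)
    rw [this]
    exact F.finite_toSet.isClosed_biUnion fun j _ => hO j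
  let O₀ : (Spec (CommRingCat.of R)).Opens := ⟨K, hopen⟩
  have hjle : ∀ j, O j ≤ O₀ := fun j t ht => hsub j t ht
  have hglue : ∀ {A B : Over S} (a : A ⟶ G) (b : B ⟶ G) [IsImmersion b.left],
      (∀ j, LE a b ((O j).ι ≫ p)) → LE a b (O₀.ι ≫ p) := by
    intro A B a b _ h
    refine le_of_family (fun j : K => (Spec (CommRingCat.of R)).homOfLE (hjle j)) (fun _ => inferInstance)
      (fun t => ⟨⟨t.1, t.2⟩, ⟨t.1, htO _⟩, (Spec (CommRingCat.of R)).homOfLE_apply _ _ |> fun h => Subtype.ext h⟩) fun j => ?_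
    rw [← Category.assoc, Scheme.homOfLE_ι]
    exact h j
  exact ⟨O₀, hclosed, fun t => Iff.rfl, hglue i i' hle, hglue i' i hle'⟩

/-- The locus of equality is clopen, and the subgroups are equal over it. -/
theorem exists_locus [IsSeparated G.hom] (hG : IsLocallyNoetherian S ∨ LocallyOfFinitePresentation G.hom)
    (hH : SGA3x.IsMultTypeFT H) (hH' : SGA3x.IsMultTypeFT H') [IsMonHom i] [IsMonHom i'] [IsImmersion i.left]
    [IsImmersion i'.left] [Mono i] [Mono i'] (hc : MultLift.Central i) :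
    ∃ U : S.Opens, IsClosed (U : Set S) ∧
      (∀ s, s ∈ U ↔ LE i i' (S.fromSpecResidueField s) ∧ LE i' i (S.fromSpecResidueField s)) ∧
      LE i i' U.ι ∧ LE i' i U.ι := by
  obtain ⟨S₁, f₁, hflat₁, hsurj₁, hcov₁, hloc₁⟩ := id hH
  obtain ⟨S₂, f₂, hflat₂, hsurj₂, hcov₂, hloc₂⟩ := id hH'
  haveI := hflat₁
  haveI := hsurj₁
  haveI := hflat₂
  haveI := hsurj₂
  let W₀ : Set S := {s | LE i i' (S.fromSpecResidueField s) ∧ LE i' i (S.fromSpecResidueField s)}
  let f := pullback.fst f₁ f₂ ≫ f₁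
  have hpiece : ∀ x : ↥(pullback f₁ f₂), ∃ (R : Type u) (_ : CommRing R) (ι' : Spec (CommRingCat.of R) ⟶ pullback f₁ f₂)
      (O : (Spec (CommRingCat.of R)).Opens), IsOpenImmersion ι' ∧ x ∈ Set.range ι' ∧
      IsClosed (O : Set (Spec (CommRingCat.of R))) ∧ (∀ t, t ∈ O ↔ f (ι' t) ∈ W₀) ∧
      LE i i' (O.ι ≫ ι' ≫ f) ∧ LE i' i (O.ι ≫ ι' ≫ f) := by
    intro x
    obtain ⟨U₁, hxU₁, M, _, _, ⟨e₁⟩⟩ := hloc₁ (pullback.fst f₁ f₂ x)
    obtain ⟨U₂, hxU₂, M', _, _, ⟨e₂⟩⟩ := hloc₂ (pullback.snd f₁ f₂ x)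
    obtain ⟨T, hT, hxT, hTU⟩ := exists_isAffineOpen_mem_and_subset (X := pullback f₁ f₂) (x := x)
      (U := pullback.fst f₁ f₂ ⁻¹ᵁ U₁ ⊓ pullback.snd f₁ f₂ ⁻¹ᵁ U₂) ⟨hxU₁, hxU₂⟩
    haveI : IsAffine (T : Scheme.{u}) := hT
    let j : Spec (CommRingCat.of Γ((T : Scheme.{u}), ⊤)) ⟶ (T : Scheme.{u}) := (T : Scheme.{u}).isoSpec.inv
    obtain ⟨w, hw⟩ := MultLift.exists_split_iso e₁
      (j ≫ (pullback.fst f₁ f₂).resLE U₁ T (hTU.trans inf_le_left)) (j ≫ T.ι ≫ f) (by
        rw [Category.assoc, Scheme.Hom.resLE_comp_ι_assoc])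
    obtain ⟨w', hw'⟩ := MultLift.exists_split_iso e₂
      (j ≫ (pullback.snd f₁ f₂).resLE U₂ T (hTU.trans inf_le_right)) (j ≫ T.ι ≫ f) (by
        rw [Category.assoc, Scheme.Hom.resLE_comp_ι_assoc, ← pullback.condition])
    obtain ⟨O, hO, hiff, hle, hle'⟩ := @exists_piece_clopen _ _ _ _ _ _ _ i i' _ hG hH hH' _ _ _ _ _ _ hc _ _ _ _ _ _
      (j ≫ T.ι ≫ f) w w' hw hw'
    refine ⟨_, inferInstance, j ≫ T.ι, O, ?_, ?_, hO, fun t => hiff t, ?_, ?_⟩
    · show IsOpenImmersion ((T : Scheme.{u}).isoSpec.inv ≫ T.ι)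
      infer_instance
    · obtain ⟨a, ha⟩ := (T : Scheme.{u}).isoSpec.inv.surjective ⟨x, hxT⟩
      refine ⟨a, ?_⟩
      show ((T : Scheme.{u}).isoSpec.inv ≫ T.ι) a = x
      rw [Scheme.Hom.comp_apply, ha]
      rfl
    · simpa only [Category.assoc] using hle
    · simpa only [Category.assoc] using hle'
  choose R _ ι' O hopen hmem hOc hpts hle hle' using hpiece
  have hclop : IsClopen (f ⁻¹' W₀) := by
    have hkey : ∀ x, ∃ V : Set ↥(pullback f₁ f₂), IsOpen V ∧ x ∈ V ∧ ((V ⊆ f ⁻¹' W₀) ∨ (V ⊆ (f ⁻¹' W₀)ᶜ)) := by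
      intro x
      haveI := hopen x
      obtain ⟨a, ha⟩ := hmem x
      by_cases haO : a ∈ O x
      · refine ⟨ι' x '' (O x : Set _), (ι' x).isOpenEmbedding.isOpenMap _ (O x).isOpen, ⟨a, haO, ha⟩, Or.inl ?_⟩
        rintro _ ⟨b, hb, rfl⟩
        exact (hpts x b).1 hb
      · refine ⟨ι' x '' (O x : Set _)ᶜ, (ι' x).isOpenEmbedding.isOpenMap _ (hOc x).isOpen_compl, ⟨a, haO, ha⟩,
          Or.inr ?_⟩
        rintro _ ⟨b, hb, rfl⟩
        exact fun h => hb ((hpts x b).2 h)
    refine ⟨isOpen_compl_iff.1 (isOpen_iff_forall_mem_open.2 fun y hy => ?_),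
      isOpen_iff_forall_mem_open.2 fun y hy => ?_⟩
    · obtain ⟨V, hV, hyV, h | h⟩ := hkey y
      · exact absurd (h hyV) hy
      · exact ⟨V, h, hV, hyV⟩
    · obtain ⟨V, hV, hyV, h | h⟩ := hkey y
      · exact ⟨V, h, hV, hyV⟩
      · exact absurd hy (h hyV)
  have hW₁ : IsClopen (f₁ ⁻¹' W₀) :=
    TrivLocus.isClopen_of_preimage (pullback.fst f₁ f₂) (DescHom.hcov_pullback_snd f₂ f₁ hcov₂) hclop
  have hW₀ : IsClopen W₀ := TrivLocus.isClopen_of_preimage f₁ hcov₁ hW₁
  let U : S.Opens := ⟨W₀, hW₀.isOpen⟩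
  refine ⟨U, hW₀.isClosed, fun s => Iff.rfl, ?_⟩
  let X' := {x : ↥(pullback f₁ f₂) // f x ∈ W₀}
  have hl : ∀ x : X', ∃ l : (O x.1 : Scheme.{u}) ⟶ (U : Scheme.{u}), l ≫ U.ι = (O x.1).ι ≫ ι' x.1 ≫ f := fun x =>
    ⟨IsOpenImmersion.lift U.ι ((O x.1).ι ≫ ι' x.1 ≫ f) (by
      rintro _ ⟨b, rfl⟩
      rw [Scheme.Opens.range_ι]
      exact (hpts x.1 _).1 b.2), IsOpenImmersion.lift_fac _ _ _⟩
  choose l hl using hl
  have hflat : ∀ x : X', Flat (l x) := fun x => by
    haveI := hopen x.1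
    haveI : Flat (l x ≫ U.ι) := by rw [hl]; infer_instance
    exact MorphismProperty.of_postcomp (W' := @IsOpenImmersion) @Flat (l x) U.ι inferInstance inferInstance
  have hsurj : ∀ t : (U : Scheme.{u}), ∃ x, t ∈ Set.range (l x) := fun t => by
    obtain ⟨z, hz⟩ := (pullback.fst f₁ f₂ ≫ f₁).surjective (U.ι t)
    obtain ⟨a, ha⟩ := hmem z
    have hzW : f z ∈ W₀ := by
      rw [show f z = U.ι t from hz]
      exact t.2
    have haO : a ∈ O z := (hpts z a).2 (by rw [ha]; exact hzW)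
    refine ⟨⟨z, hzW⟩, (⟨a, haO⟩ : (O z : Scheme.{u})), U.ι.isOpenEmbedding.injective ?_⟩
    rw [← Scheme.Hom.comp_apply, hl]
    show f (ι' z a) = _
    rw [ha]
    exact hz
  exact ⟨le_of_family l hflat hsurj fun x => by rw [hl]; exact hle x.1,
    le_of_family l hflat hsurj fun x => by rw [hl]; exact hle' x.1⟩

end Groth.Agent.MultEq
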