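import Groth.Agent.MultEqLib.Le
import Groth.Agent.DescHomLib.MultBC

/-!
On a split piece the locus of inclusion between two subgroups of multiplicative type is a union of clopens.
-/

set_option autoImplicit false

noncomputable section

universe u

open CategoryTheory CategoryTheory.Limits MonoidalCategory CartesianMonoidalCategory AlgebraicGeometry CoactBr
open scoped MonObj TensorProduct

namespace Groth.Agent.MultEq

open Groth.Agent.FreeAct (DA chr)
open Groth.Agent.MonoLocus (hpt hpt_mul hpt_one hpt_injective hpt_surjective homEquiv_hpt kob kin comp_eq_one_iff)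

attribute [local instance] CoactBr.braidedAlgSpecOf

variable {S : Scheme.{u}} {G H H' : Over S} [GrpObj G] [GrpObj H] [GrpObj H'] {R : Type u} [CommRing R]
  {M M' : Type} [AddCommGroup M] [AddCommGroup M'] (p : Spec (CommRingCat.of R) ⟶ S)
  (w : sp R (DA R M) ≅ Red.bc p H) (w' : sp R (DA R M') ≅ Red.bc p H') {i : H ⟶ G} {i' : H' ⟶ G}

theorem hpt_natural {A B : Type u} [CommRing A] [Algebra R A] [CommRing B] [Algebra R B] (L : A →ₐ[R] B)
    (χ : Multiplicative M →* A) :
    (Over.map p).map (pt L) ≫ hpt p w χ = hpt p w (L.toRingHom.toMonoidHom.comp χ) := by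
  rw [hpt, hpt, ← Category.assoc, ← Functor.map_comp, ← pt_comp]
  refine congrArg (· ≫ _) (congrArg ((Over.map p).map) (congrArg pt ?_))
  exact AlgHom.toLinearMap_injective ((MonoidAlgebra.basis (Multiplicative M) R).ext fun m => by simp [chr])

/-- A character whose image is squared by the two inclusions gives a group-like element. -/
theorem comul_eq_of_points [IsMonHom w.hom] [IsMonHom w'.hom] [IsMonHom i] [IsMonHom i'] [Mono i'] {A T : Type u}
    [CommRing A] [Algebra R A] [CommRing T] [Algebra R T] (χ : Multiplicative M →* A) (χ' : Multiplicative M' →* A)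
    (hh : hpt p w' χ' ≫ i' = hpt p w χ ≫ i) (L L₁ L₂ : A →ₐ[R] T) (hL : ∀ m, L (χ m) = L₁ (χ m) * L₂ (χ m))
    (m : Multiplicative M') : L (χ' m) = L₁ (χ' m) * L₂ (χ' m) := by
  have key : ∀ K : A →ₐ[R] T, hpt p w' (K.toRingHom.toMonoidHom.comp χ') ≫ i' =
      hpt p w (K.toRingHom.toMonoidHom.comp χ) ≫ i := fun K => by
    rw [← hpt_natural, ← hpt_natural, Category.assoc, hh, Category.assoc]
  have h1 : hpt p w' (L.toRingHom.toMonoidHom.comp χ') ≫ i' =
      hpt p w' (L₁.toRingHom.toMonoidHom.comp χ' * L₂.toRingHom.toMonoidHom.comp χ') ≫ i' := by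
    rw [key, hpt_mul, MultLift.hom_mul i', key, key, ← MultLift.hom_mul i, ← hpt_mul]
    exact congrArg (hpt p w · ≫ i) (MonoidHom.ext fun m => hL m)
  exact DFunLike.congr_fun (hpt_injective p w' ((cancel_mono i').1 h1)) m

theorem counit_eq_of_points [IsMonHom w.hom] [IsMonHom w'.hom] [IsMonHom i] [IsMonHom i'] [Mono i'] {A T : Type u}
    [CommRing A] [Algebra R A] [CommRing T] [Algebra R T] (χ : Multiplicative M →* A) (χ' : Multiplicative M' →* A)
    (hh : hpt p w' χ' ≫ i' = hpt p w χ ≫ i) (L : A →ₐ[R] T) (hL : ∀ m, L (χ m) = 1) (m : Multiplicative M') :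
    L (χ' m) = 1 := by
  have h1 : hpt p w' (L.toRingHom.toMonoidHom.comp χ') ≫ i' = hpt p w' (1 : Multiplicative M' →* T) ≫ i' := by
    rw [← hpt_natural, Category.assoc, hh, ← Category.assoc, hpt_natural, hpt_one, MonObj.one_comp,
      show L.toRingHom.toMonoidHom.comp χ = 1 from MonoidHom.ext fun m => hL m, hpt_one, MonObj.one_comp]
  exact DFunLike.congr_fun (hpt_injective p w' ((cancel_mono i').1 h1)) m

/-- Over a field, an inclusion of diagonalisable subgroups comes from a homomorphism of the character groups. -/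
theorem exists_charMap [IsMonHom w.hom] [IsMonHom w'.hom] [IsMonHom i] [IsMonHom i'] [Mono i'] {F : Type u} [Field F]
    (ψ : R →+* F) (hle : LE i i' (Spec.map (CommRingCat.ofHom ψ) ≫ p)) :
    ∃ φ : Multiplicative M' →* Multiplicative M, ∀ (A : Type u) [CommRing A] [Algebra R A] (g : F →+* A),
      g.comp ψ = algebraMap R A → ∀ χ : Multiplicative M →* A,
        hpt p w' (χ.comp φ) ≫ i' = hpt p w χ ≫ i := by
  letI := ψ.toAlgebra
  let D : Type u := MonoidAlgebra F (Multiplicative M)
  let χ₀ : Multiplicative M →* D := MonoidAlgebra.of F (Multiplicative M)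
  obtain ⟨h', hh'⟩ := hle ((Over.map p).obj (sp R D)) (Spec.map (CommRingCat.ofHom (algebraMap F D))) (by
    show _ = Spec.map (CommRingCat.ofHom (algebraMap R D)) ≫ p
    exact (Category.assoc _ _ _).symm.trans (congrArg (· ≫ p) (Spec.map_comp _ _).symm)) (hpt p w χ₀)
  obtain ⟨χ', rfl⟩ := hpt_surjective p w' h'
  have hgl : ∀ m, IsGroupLikeElem F (χ' m : D) := by
    intro m
    refine ⟨?_, ?_⟩
    · exact counit_eq_of_points p w w' χ₀ χ' hh' ((Bialgebra.counitAlgHom F D).restrictScalars R)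
        (fun m => by simp [χ₀, D]) m
    · have h := comul_eq_of_points p w w' χ₀ χ' hh' ((Bialgebra.comulAlgHom F D).restrictScalars R)
        ((Algebra.TensorProduct.includeLeft : D →ₐ[F] D ⊗[F] D).restrictScalars R)
        ((Algebra.TensorProduct.includeRight : D →ₐ[F] D ⊗[F] D).restrictScalars R)
        (fun m => by simp [χ₀, D, Algebra.TensorProduct.tmul_mul_tmul]) m
      simpa [Algebra.TensorProduct.tmul_mul_tmul] using h
  choose φ hφ using fun m => MonoidAlgebra.isGroupLikeElem_iff_mem_range_single_one.1 (hgl m)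
  have hinj : Function.Injective fun m : Multiplicative M => (MonoidAlgebra.single m (1 : F) : D) :=
    fun a b h => by simpa using MonoidAlgebra.single_left_injective one_ne_zero h
  let φ' : Multiplicative M' →* Multiplicative M :=
    { toFun := φ
      map_one' := hinj ((hφ 1).trans (by rw [map_one]; rfl))
      map_mul' := fun a b => hinj (by
        show MonoidAlgebra.single (φ (a * b)) (1 : F) = MonoidAlgebra.single (φ a * φ b) 1
        refine (hφ _).trans ?_
        rw [map_mul, ← hφ a, ← hφ b]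
        exact (MonoidAlgebra.single_mul_single _ _ _ _).trans (by rw [one_mul])) }
  refine ⟨φ', fun A _ _ g hg χ => ?_⟩
  letI : Algebra F A := g.toAlgebra
  haveI : IsScalarTower R F A := IsScalarTower.of_algebraMap_eq fun r => (RingHom.congr_fun hg r).symm
  let L : D →ₐ[R] A := (MonoidAlgebra.lift F A (Multiplicative M) χ).restrictScalars R
  have e1 : L.toRingHom.toMonoidHom.comp χ₀ = χ := MonoidHom.ext fun m => by simp [L, χ₀, D]
  have e2 : L.toRingHom.toMonoidHom.comp χ' = χ.comp φ' := MonoidHom.ext fun m => by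
    show L (χ' m) = χ (φ m)
    rw [← hφ m]
    exact (MonoidAlgebra.lift_single _ _ _).trans (one_smul _ _)
  rw [← e2, ← hpt_natural, Category.assoc, hh', ← Category.assoc, hpt_natural, e1]

/-- The homomorphism given by a map of character groups. -/
def gHom (φ : Multiplicative M' →* Multiplicative M) : Red.bc p H ⟶ Red.bc p H' :=
  w.inv ≫ pt (chr (R := R) (DA R M) ((MonoidAlgebra.of R (Multiplicative M)).comp φ)) ≫ w'.hom

theorem isMonHom_gHom [IsMonHom w.hom] [IsMonHom w'.hom] (φ : Multiplicative M' →* Multiplicative M) :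
    IsMonHom (gHom p w w' φ) := by
  haveI : IsMonHom (pt (chr (R := R) (DA R M) ((MonoidAlgebra.of R (Multiplicative M)).comp φ))) :=
    DiagRep.isMonHom_pt _
      (AlgHom.toLinearMap_injective ((MonoidAlgebra.basis (Multiplicative M') R).ext fun m => by simp [chr]))
      (AlgHom.toLinearMap_injective ((MonoidAlgebra.basis (Multiplicative M') R).ext fun m => by simp [chr]))
  haveI : IsMonHom w.inv := inferInstance
  exact inferInstanceAs (IsMonHom (w.inv ≫ pt _ ≫ w'.hom))

theorem hpt_gHom (φ : Multiplicative M' →* Multiplicative M) {A : Type u} [CommRing A] [Algebra R A]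
    (χ : Multiplicative M →* A) :
    (Over.mapPullbackAdj p).homEquiv (sp R A) H (hpt p w χ) ≫ gHom p w w' φ =
      (Over.mapPullbackAdj p).homEquiv (sp R A) H' (hpt p w' (χ.comp φ)) := by
  rw [homEquiv_hpt, homEquiv_hpt, gHom, Category.assoc, w.hom_inv_id_assoc, ← Category.assoc, ← pt_comp]
  refine congrArg (· ≫ w'.hom) (congrArg pt ?_)
  exact AlgHom.toLinearMap_injective ((MonoidAlgebra.basis (Multiplicative M') R).ext fun m => by simp [chr])

variable {p} in
/-- The difference of the two inclusions on pairs. -/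
structure Diff (i : H ⟶ G) (i' : H' ⟶ G) where
  /-- the morphism -/
  hom : H ⊗ H' ⟶ G
  eq_one_iff : ∀ {Y : Over S} (a : Y ⟶ H) (b : Y ⟶ H'), lift a b ≫ hom = 1 ↔ a ≫ i = b ≫ i'

/-- The pair morphism attached to a map of character groups. -/
def m₀ (φ : Multiplicative M' →* Multiplicative M) : (Over.map p).obj (Red.bc p H) ⟶ H ⊗ H' :=
  lift (((Over.mapPullbackAdj p).homEquiv _ H).symm (𝟙 _))
    (((Over.mapPullbackAdj p).homEquiv _ H').symm (gHom p w w' φ))

theorem comp_m₀ (φ : Multiplicative M' →* Multiplicative M) {Y : Over (Spec (CommRingCat.of R))}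
    (y : Y ⟶ Red.bc p H) : (Over.map p).map y ≫ m₀ p w w' φ =
      lift (((Over.mapPullbackAdj p).homEquiv Y H).symm y)
        (((Over.mapPullbackAdj p).homEquiv Y H').symm (y ≫ gHom p w w' φ)) := by
  rw [m₀, comp_lift, Adjunction.homEquiv_naturality_left_symm, ← Adjunction.homEquiv_naturality_left_symm]
  erw [Category.comp_id]

/-- The difference pulled back along a map of character groups. -/
def dHom (Δ : Diff i i') (φ : Multiplicative M' →* Multiplicative M) : Red.bc p H ⟶ Red.bc p G :=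
  (Over.mapPullbackAdj p).homEquiv (Red.bc p H) G (m₀ p w w' φ ≫ Δ.hom)

theorem comp_dHom (Δ : Diff i i') (φ : Multiplicative M' →* Multiplicative M) {Y : Over (Spec (CommRingCat.of R))}
    (y : Y ⟶ Red.bc p H) : y ≫ dHom p w w' Δ φ = 1 ↔
      y ≫ gHom p w w' φ ≫ (Over.pullback p).map i' = y ≫ (Over.pullback p).map i := by
  let adj := Over.mapPullbackAdj p
  have hone : adj.homEquiv Y G 1 = 1 := by
    have h := AlgGrp.Action.homEquiv_mul p (1 : (Over.map p).obj Y ⟶ G) 1
    rw [mul_one] at h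
    exact mul_eq_left.1 h.symm
  have h1 : y ≫ dHom p w w' Δ φ = adj.homEquiv Y G ((Over.map p).map y ≫ m₀ p w w' φ ≫ Δ.hom) :=
    (adj.homEquiv_naturality_left y _).symm
  rw [h1, ← hone, (adj.homEquiv Y G).injective.eq_iff, ← Category.assoc, comp_m₀, Δ.eq_one_iff,
    ← (adj.homEquiv Y G).injective.eq_iff, adj.homEquiv_naturality_right, adj.homEquiv_naturality_right,
    Equiv.apply_symm_apply, Equiv.apply_symm_apply, Category.assoc]
  exact eq_comm

theorem isMonHom_dHom [IsMonHom w.hom] [IsMonHom w'.hom] [IsMonHom i] [IsMonHom i'] (Δ : Diff i i')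
    (hΔ : Δ.hom = (snd H H' ≫ i') * (fst H H' ≫ i)⁻¹ ∧ MultLift.Central i ∨
      Δ.hom = (fst H H' ≫ i) * (snd H H' ≫ i')⁻¹ ∧ MultLift.Central i')
    (φ : Multiplicative M' →* Multiplicative M) : IsMonHom (dHom p w w' Δ φ) := by
  let adj := Over.mapPullbackAdj p
  haveI := isMonHom_gHom p w w' φ
  haveI : IsMonHom (M := Red.bc p H) (N := Red.bc p G) ((Over.pullback p).map i) := DiagRep.isMonHom_bc_map p i
  haveI : IsMonHom (M := Red.bc p H') (N := Red.bc p G) ((Over.pullback p).map i') := DiagRep.isMonHom_bc_map p i'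
  haveI : IsMonHom (gHom p w w' φ ≫ (Over.pullback p).map i' : Red.bc p H ⟶ Red.bc p G) := inferInstance
  have hinv : ∀ x : (Over.map p).obj (Red.bc p H) ⟶ G, adj.homEquiv _ G x⁻¹ = (adj.homEquiv _ G x)⁻¹ := fun x => by
    refine eq_inv_of_mul_eq_one_left ?_
    have h := AlgGrp.Action.homEquiv_mul p x⁻¹ x
    rw [inv_mul_cancel] at h
    refine h.symm.trans ?_
    have h' := AlgGrp.Action.homEquiv_mul p (1 : (Over.map p).obj (Red.bc p H) ⟶ G) 1
    rw [mul_one] at h'
    exact mul_eq_left.1 h'.symm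
  have e1 : adj.homEquiv (Red.bc p H) G (m₀ p w w' φ ≫ fst H H' ≫ i) = (Over.pullback p).map i := by
    rw [m₀, lift_fst_assoc, adj.homEquiv_naturality_right, Equiv.apply_symm_apply]
    exact Category.id_comp _
  have e2 : adj.homEquiv (Red.bc p H) G (m₀ p w w' φ ≫ snd H H' ≫ i') =
      gHom p w w' φ ≫ (Over.pullback p).map i' := by
    rw [m₀, lift_snd_assoc, adj.homEquiv_naturality_right, Equiv.apply_symm_apply]
  rcases hΔ with ⟨e, hc⟩ | ⟨e, hc⟩
  · have : dHom p w w' Δ φ = (gHom p w w' φ ≫ (Over.pullback p).map i' : Red.bc p H ⟶ Red.bc p G) *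
        ((Over.pullback p).map i : Red.bc p H ⟶ Red.bc p G)⁻¹ := by
      rw [dHom, e, MonObj.comp_mul, GrpObj.comp_inv, AlgGrp.Action.homEquiv_mul, hinv, e1, e2]
    rw [this]
    exact MultLift.isMonHom_mul_inv (MultLift.central_bc p hc)
  · have : dHom p w w' Δ φ = ((Over.pullback p).map i : Red.bc p H ⟶ Red.bc p G) *
        (gHom p w w' φ ≫ (Over.pullback p).map i' : Red.bc p H ⟶ Red.bc p G)⁻¹ := by
      rw [dHom, e, MonObj.comp_mul, GrpObj.comp_inv, AlgGrp.Action.homEquiv_mul, hinv, e1, e2]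
    rw [this]
    exact MultLift.isMonHom_mul_inv (MultLift.central_comp (MultLift.central_bc p hc) _)

omit [GrpObj H'] in
theorem eq_one_iff_factor {B : Scheme.{u}} {X K : Over B} [GrpObj K] (u : X ⟶ K) {Y : Over B} (h : Y ⟶ X) :
    h ≫ u = 1 ↔ ∃ l : Y.left ⟶ pullback (lift u 1).left (lift (𝟙 K) (𝟙 K)).left,
      l ≫ pullback.fst _ _ = h.left := by
  constructor
  · intro he
    have he' : h ≫ lift u 1 = (1 : Y ⟶ K) ≫ lift (𝟙 K) (𝟙 K) := by
      rw [comp_lift, comp_lift, he, MonObj.comp_one, Category.comp_id]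
    exact ⟨pullback.lift h.left (1 : Y ⟶ K).left (congrArg CommaMorphism.left he'), pullback.lift_fst _ _ _⟩
  · rintro ⟨l, hl⟩
    let g : Y ⟶ K := Over.homMk (l ≫ pullback.snd _ _) (by
      have hd : (lift (𝟙 K) (𝟙 K)).left ≫ (K ⊗ K).hom = K.hom := Over.w _
      rw [← Over.w h, ← hl, Category.assoc, Category.assoc, ← hd, ← pullback.condition_assoc, Over.w (lift u 1)])
    have he : h ≫ lift u 1 = g ≫ lift (𝟙 K) (𝟙 K) := Over.OverMorphism.ext (by
      show h.left ≫ (lift u 1).left = (l ≫ pullback.snd _ _) ≫ (lift (𝟙 K) (𝟙 K)).left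
      rw [← hl, Category.assoc, Category.assoc, pullback.condition])
    have h1 := congrArg (· ≫ fst K K) he
    have h2 := congrArg (· ≫ snd K K) he
    simp only [Category.assoc, lift_fst, lift_snd, Category.comp_id, MonObj.comp_one] at h1 h2
    rw [h1, h2]

theorem eqFinPres_dHom [IsSeparated G.hom] (Δ : Diff i i') [LocallyOfFinitePresentation (kin Δ.hom).left]
    (φ : Multiplicative M' →* Multiplicative M) : TrivLocus.EqFinPres (dHom p w w' Δ φ) := by
  let adj := Over.mapPullbackAdj p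
  let d := dHom p w w' Δ φ
  haveI : IsSeparated (Red.bc p G).hom := inferInstanceAs (IsSeparated (pullback.snd G.hom p))
  haveI : IsClosedImmersion (lift (𝟙 (Red.bc p G)) (𝟙 (Red.bc p G))).left := by
    show IsClosedImmersion (pullback.diagonal (Red.bc p G).hom)
    infer_instance
  let zd : pullback (lift d 1).left (lift (𝟙 (Red.bc p G)) (𝟙 (Red.bc p G))).left ⟶ (Red.bc p H).left :=
    pullback.fst _ _
  haveI : IsClosedImmersion zd := inferInstanceAs (IsClosedImmersion (pullback.fst _ _))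
  let z : pullback (m₀ p w w' φ).left (kin Δ.hom).left ⟶ (Red.bc p H).left := pullback.fst _ _
  haveI : LocallyOfFinitePresentation z :=
    inferInstanceAs (LocallyOfFinitePresentation (pullback.fst (m₀ p w w' φ).left (kin Δ.hom).left))
  haveI : Mono (kin Δ.hom).left := by
    haveI : Mono (η[G] : 𝟙_ (Over S) ⟶ G).left := by
      haveI : Mono ((η[G] : 𝟙_ (Over S) ⟶ G).left ≫ G.hom) := by
        rw [Over.w]
        exact inferInstanceAs (Mono (𝟙 S))
      exact mono_of_mono _ G.hom
    exact inferInstanceAs (Mono (pullback.fst Δ.hom.left (η[G] : 𝟙_ (Over S) ⟶ G).left))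
  haveI : Mono z := inferInstanceAs (Mono (pullback.fst (m₀ p w w' φ).left (kin Δ.hom).left))
  have hiff : ∀ {Y : Over (Spec (CommRingCat.of R))} (y : Y ⟶ Red.bc p H),
      (∃ l, l ≫ zd = y.left) ↔ ∃ l, l ≫ z = y.left := by
    intro Y y
    rw [← eq_one_iff_factor]
    have h1 : y ≫ d = 1 ↔ ((Over.map p).map y ≫ m₀ p w w' φ) ≫ Δ.hom = 1 := by
      have hone : adj.homEquiv Y G 1 = 1 := by
        have h := AlgGrp.Action.homEquiv_mul p (1 : (Over.map p).obj Y ⟶ G) 1
        rw [mul_one] at h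
        exact mul_eq_left.1 h.symm
      have h2 : y ≫ d = adj.homEquiv Y G (((Over.map p).map y ≫ m₀ p w w' φ) ≫ Δ.hom) := by
        rw [Category.assoc]
        exact (adj.homEquiv_naturality_left y _).symm
      rw [h2, ← hone, (adj.homEquiv Y G).injective.eq_iff]
    rw [h1, comp_eq_one_iff]
    constructor
    · rintro ⟨k, hk⟩
      have hk' : y.left ≫ (m₀ p w w' φ).left = k.left ≫ (kin Δ.hom).left := (congrArg CommaMorphism.left hk).symm
      exact ⟨pullback.lift y.left k.left hk', pullback.lift_fst _ _ _⟩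
    · rintro ⟨l, hl⟩
      have hl' : (l ≫ pullback.snd _ _) ≫ (kin Δ.hom).left = y.left ≫ (m₀ p w w' φ).left := by
        rw [Category.assoc, ← pullback.condition, ← hl, Category.assoc]
      refine ⟨Over.homMk (l ≫ pullback.snd _ _) ?_, Over.OverMorphism.ext hl'⟩
      exact ((congrArg (_ ≫ ·) (Over.w (kin Δ.hom))).symm.trans (Category.assoc _ _ _).symm).trans
        ((congrArg (· ≫ (H ⊗ H').hom) hl').trans (Over.w ((Over.map p).map y ≫ m₀ p w w' φ)))
  obtain ⟨l₁, hl₁⟩ := (hiff (Y := Over.mk (zd ≫ (Red.bc p H).hom)) (Over.homMk zd)).1 ⟨𝟙 _, Category.id_comp _⟩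
  obtain ⟨l₂, hl₂⟩ := (hiff (Y := Over.mk (z ≫ (Red.bc p H).hom)) (Over.homMk z)).2 ⟨𝟙 _, Category.id_comp _⟩
  haveI : IsIso l₁ := ⟨l₂, (cancel_mono zd).1 (by
      rw [Category.assoc, Category.id_comp]
      exact (congrArg (l₁ ≫ ·) hl₂).trans hl₁), (cancel_mono z).1 (by
      rw [Category.assoc, Category.id_comp]
      exact (congrArg (l₂ ≫ ·) hl₁).trans hl₂)⟩
  show LocallyOfFinitePresentation zd
  rw [show zd = l₁ ≫ z from hl₁.symm]
  infer_instance

set_option maxHeartbeats 1000000 in
/-- Near a point of inclusion the inclusion holds on a clopen. -/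
theorem exists_clopen [IsSeparated G.hom] [IsMonHom w.hom] [IsMonHom w'.hom] [IsMonHom i] [IsMonHom i'] [Mono i']
    [IsImmersion i'.left] (hH : SGA3x.IsMultTypeFT H) (Δ : Diff i i')
    [LocallyOfFinitePresentation (kin Δ.hom).left]
    (hΔ : Δ.hom = (snd H H' ≫ i') * (fst H H' ≫ i)⁻¹ ∧ MultLift.Central i ∨
      Δ.hom = (fst H H' ≫ i) * (snd H H' ≫ i')⁻¹ ∧ MultLift.Central i')
    (t : Spec (CommRingCat.of R)) (ht : LE i i' (S.fromSpecResidueField (p t))) :
    ∃ O : (Spec (CommRingCat.of R)).Opens, IsClosed (O : Set (Spec (CommRingCat.of R))) ∧ t ∈ O ∧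
      LE i i' (O.ι ≫ p) := by
  let adj := Over.mapPullbackAdj p
  let q : PrimeSpectrum R := t
  let F := q.asIdeal.ResidueField
  let κ : Spec (CommRingCat.of F) ⟶ Spec (CommRingCat.of R) := Spec.map (CommRingCat.ofHom (algebraMap R F))
  have hκ : κ (IsLocalRing.closedPoint F) = t := by
    refine PrimeSpectrum.ext ?_
    show Ideal.comap (algebraMap R F) (IsLocalRing.maximalIdeal F) = q.asIdeal
    rw [IsLocalRing.isField_iff_maximalIdeal_eq.1 (Field.toIsField F)]
    exact Ideal.ker_algebraMap_residueField _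
  have hle : LE i i' (κ ≫ p) := by
    rw [le_field_iff, show (κ ≫ p) (IsLocalRing.closedPoint F) = p t by rw [Scheme.Hom.comp_apply, hκ]]
    exact ht
  obtain ⟨φ, hφ⟩ := exists_charMap p w w' (algebraMap R F) hle
  let d := dHom p w w' Δ φ
  haveI : IsMonHom d := isMonHom_dHom p w w' Δ hΔ φ
  haveI : IsSeparated (Red.bc p G).hom := inferInstanceAs (IsSeparated (pullback.snd G.hom p))
  obtain ⟨O, hO, hiff, htriv⟩ :=
    TrivLocus.exists_locus (u := d) (DescHom.isMultTypeFT_bc hH p) (eqFinPres_dHom p w w' Δ φ)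
  refine ⟨O, hO, (hiff t).2 ?_, ?_⟩
  · rw [← hκ, ← TrivLocus.triv_field_iff]
    intro Y g hg h
    refine Over.OverMorphism.ext (Y.left.affineOpenCover.openCover.hom_ext _ _ fun j => ?_)
    let A : Type u := Y.left.affineOpenCover.X j
    let f : Spec (CommRingCat.of A) ⟶ Y.left := Y.left.affineOpenCover.f j
    obtain ⟨a, ha⟩ := Spec.map_surjective (f ≫ g)
    letI : Algebra R A := (a.hom.comp (algebraMap R F)).toAlgebra
    let e : sp R A ⟶ Y := Over.homMk f (by
      show f ≫ Y.hom = Spec.map (CommRingCat.ofHom (a.hom.comp (algebraMap R F)))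
      rw [← hg, ← Category.assoc, ← ha, CommRingCat.ofHom_comp, Spec.map_comp]
      simp [κ])
    have h1 : e ≫ h ≫ d = 1 := by
      rw [← Category.assoc, comp_dHom]
      obtain ⟨χ, hχ⟩ := hpt_surjective p w ((adj.homEquiv (sp R A) H).symm (e ≫ h))
      have he : e ≫ h = adj.homEquiv (sp R A) H (hpt p w χ) := by
        rw [← hχ, Equiv.apply_symm_apply]
      rw [he, ← Category.assoc, hpt_gHom, ← adj.homEquiv_naturality_right, hφ A a.hom rfl χ,
        adj.homEquiv_naturality_right]
    rw [← MonObj.comp_one e] at h1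
    exact congrArg CommaMorphism.left h1
  · intro Y g hg h
    let Y' : Over (Spec (CommRingCat.of R)) := Over.mk (g ≫ O.ι)
    let ε : (Over.map p).obj Y' ⟶ Y := Over.homMk (𝟙 Y.left) (by
      show 𝟙 Y.left ≫ Y.hom = (g ≫ O.ι) ≫ p
      rw [Category.id_comp, Category.assoc, hg])
    haveI : IsIso ((Over.forget S).map ε) := inferInstanceAs (IsIso (𝟙 Y.left))
    haveI : IsIso ε := isIso_of_reflects_iso ε (Over.forget S)
    have h1 := (comp_dHom p w w' Δ φ _).1 (htriv Y' g rfl (adj.homEquiv Y' H (ε ≫ h)))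
    refine ⟨inv ε ≫ (adj.homEquiv Y' H').symm (adj.homEquiv Y' H (ε ≫ h) ≫ gHom p w w' φ), ?_⟩
    rw [Category.assoc, IsIso.inv_comp_eq, ← Category.assoc]
    refine (adj.homEquiv Y' G).injective ?_
    rw [adj.homEquiv_naturality_right _ i', adj.homEquiv_naturality_right (ε ≫ h) i, Equiv.apply_symm_apply,
      Category.assoc]
    exact h1

end Groth.Agent.MultEq
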